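import Mathlib.AlgebraicGeometry.Morphisms.Smooth
import Mathlib.AlgebraicGeometry.Morphisms.Etale

/-!
Properties on a neighbourhood versus properties of one affine chart over a given affine open.
-/

set_option autoImplicit false
set_option backward.isDefEq.respectTransparency.types false

universe u

open CategoryTheory AlgebraicGeometry

namespace Groth.Agent.EtChart

variable {X S : Scheme.{u}} (f : X ⟶ S) {P : MorphismProperty Scheme.{u}}
  {Q : ∀ {R S : Type u} [CommRing R] [CommRing S], (R →+* S) → Prop} [HasRingHomProperty P Q]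

theorem exists_appLE {x : X} {V : S.Opens} (hV : IsAffineOpen V) (hxV : f x ∈ V) {W : X.Opens}
    (hxW : x ∈ W) (h : P (W.ι ≫ f)) :
    ∃ (U : X.Opens) (_ : IsAffineOpen U) (_ : x ∈ U) (e : U ≤ f ⁻¹ᵁ V), Q (f.appLE V U e).hom := by
  obtain ⟨U, hU, hxU, hUW⟩ := exists_isAffineOpen_mem_and_subset (x := x) (U := W ⊓ f ⁻¹ᵁ V)
    ⟨hxW, hxV⟩
  have hUW' : U ≤ W := fun z hz => (hUW hz).1
  have hUV : U ≤ f ⁻¹ᵁ V := fun z hz => (hUW hz).2
  refine ⟨U, hU, hxU, hUV, ?_⟩
  have hP : P (U.ι ≫ f) := by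
    rw [← X.homOfLE_ι hUW', Category.assoc]
    exact IsZariskiLocalAtSource.comp h _
  have htop : (U.ι ''ᵁ ⊤ : X.Opens) = U := by simp
  have : IsAffine U.toScheme := hU
  have e : (⊤ : U.toScheme.Opens) ≤ (U.ι ≫ f) ⁻¹ᵁ V := fun z _ => hUV z.2
  have hQ := HasRingHomProperty.appLE P (U.ι ≫ f) hP ⟨V, hV⟩ ⟨⊤, isAffineOpen_top _⟩ e
  have he : (U.ι ≫ f).appLE V ⊤ e = f.appLE V U hUV ≫ U.topIso.inv := by
    rw [← Scheme.Hom.appLE_comp_appLE U.ι f V U ⊤ hUV (fun z _ => z.2)]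
    congr 1
    simp [Scheme.Hom.appLE, Scheme.Opens.topIso]
    erw [← Functor.map_comp]
    rfl
  change Q ((U.ι ≫ f).appLE V ⊤ e).hom at hQ
  rw [he] at hQ
  exact ((HasRingHomProperty.isLocal_ringHomProperty P).respectsIso.cancel_right_isIso
    (f.appLE V U hUV) U.topIso.inv).mp hQ

theorem of_appLE {V : S.Opens} (hV : IsAffineOpen V) {U : X.Opens} (hU : IsAffineOpen U)
    (e : U ≤ f ⁻¹ᵁ V) (h : Q (f.appLE V U e).hom) [P.IsStableUnderComposition]
    (hopen : P V.ι) : P (U.ι ≫ f) := by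
  have : IsAffine _ := hU
  have : IsAffine _ := hV
  have hres : P (f.resLE V U e) := by
    rw [HasRingHomProperty.iff_of_isAffine (P := P)]
    exact ((HasRingHomProperty.isLocal_ringHomProperty P).respectsIso.arrow_mk_iso_iff
      (arrowResLEAppIso f V U e)).mpr h
  rw [← Scheme.Hom.resLE_comp_ι f e]
  exact MorphismProperty.comp_mem P _ _ hres hopen

/-- Shrink a chart to a basic open. -/
theorem appLE_basicOpen {V : S.Opens} {U : X.Opens} (e : U ≤ f ⁻¹ᵁ V) (r : Γ(X, U)) :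
    (f.appLE V U e) ≫ X.presheaf.map (homOfLE (X.basicOpen_le r)).op =
      f.appLE V (X.basicOpen r) ((X.basicOpen_le r).trans e) :=
  Scheme.Hom.appLE_map _ _ _

theorem mem_basicOpen_of_notMem {U : X.Opens} (hU : IsAffineOpen U) {x : X} (hx : x ∈ U)
    {r : Γ(X, U)} (hr : r ∉ (hU.primeIdealOf ⟨x, hx⟩).asIdeal) : x ∈ X.basicOpen r := by
  letI := TopCat.Presheaf.algebra_section_stalk X.presheaf (⟨x, hx⟩ : U)
  have := hU.isLocalization_stalk ⟨x, hx⟩
  rw [X.mem_basicOpen _ x hx]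
  exact (IsLocalization.AtPrime.isUnit_to_map_iff (X.presheaf.stalk x)
    (hU.primeIdealOf ⟨x, hx⟩).asIdeal r).mpr hr

end Groth.Agent.EtChart
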